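import Mathlib.RingTheory.Ideal.KrullsHeightTheorem
import Mathlib.RingTheory.Ideal.GoingDown
import Mathlib.RingTheory.Etale.Locus
import Mathlib.RingTheory.Kaehler.JacobiZariski
import Mathlib.RingTheory.Flat.LocallyFree
import Mathlib.RingTheory.Smooth.Basic
import Mathlib.RingTheory.FinitePresentation
import Mathlib.LinearAlgebra.Matrix.Rank
import Mathlib.LinearAlgebra.Matrix.ToLin
import Mathlib.RingTheory.Localization.Ideal

/-! # A morphism of smooth algebras which is etale in codimension one is etale -/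

set_option autoImplicit false

universe u v w

open TensorProduct

namespace Groth.Agent.EtExt

section Det

variable {T : Type*} [CommRing T]

/-- An endomorphism matrix which is invertible up to scalars at all primes of height at most one
of a Noetherian ring is invertible. -/
theorem isUnit_det_of_height_le_one [IsNoetherianRing T] {n : Type*} [Fintype n] [DecidableEq n]
    (F : Matrix n n T)
    (h : ∀ (Q : Ideal T) [Q.IsPrime], Q.height ≤ 1 → ∃ s ∉ Q, ∃ G : Matrix n n T, F * G = s • 1) :
    IsUnit F.det := by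
  by_contra hu
  have hne : Ideal.span {F.det} ≠ ⊤ := by rwa [Ne, Ideal.span_singleton_eq_top]
  obtain ⟨Q, hQ⟩ := Ideal.nonempty_minimalPrimes (R := T) hne
  haveI := hQ.isPrime
  have hh : Q.height ≤ 1 :=
    Ideal.height_le_one_of_isPrincipal_of_mem_minimalPrimes _ Q hQ
  obtain ⟨s, hs, G, hG⟩ := h Q hh
  have hdet := congrArg Matrix.det hG
  rw [Matrix.det_mul, Matrix.det_smul, Matrix.det_one, mul_one] at hdet
  have hmem : F.det ∈ Q := hQ.1.2 (Ideal.mem_span_singleton_self _)
  have : s ^ Fintype.card n ∈ Q := hdet ▸ Q.mul_mem_right _ hmem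
  exact hs (‹Q.IsPrime›.mem_of_pow_mem _ this)

variable {M : Type*} [AddCommGroup M] [Module T M] {N : Type*} [AddCommGroup N] [Module T N]
  (φ : M →ₗ[T] N)

/-- Surjectivity up to scalars with finitely many targets. -/
theorem exists_scalar_range [Module.Finite T N] (Q : Ideal T) [Q.IsPrime]
    (h : ∀ y : N, ∃ s ∉ Q, s • y ∈ LinearMap.range φ) :
    ∃ s ∉ Q, ∀ y : N, s • y ∈ LinearMap.range φ := by
  classical
  obtain ⟨S, hS⟩ := Module.Finite.fg_top (R := T) (M := N)
  choose s hs hy using h
  refine ⟨∏ y ∈ S, s y, ?_, fun y => ?_⟩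
  · exact fun hc => by
      obtain ⟨y, _, hy'⟩ := (‹Q.IsPrime›.prod_mem_iff).mp hc
      exact hs y hy'
  · have : y ∈ Submodule.span T (S : Set N) := by rw [hS]; trivial
    induction this using Submodule.span_induction with
    | mem x hx =>
      rw [← Finset.mul_prod_erase _ _ hx, mul_comm, mul_smul]
      exact Submodule.smul_mem _ _ (hy x)
    | zero => simp
    | add x z _ _ hx hz => rw [smul_add]; exact Submodule.add_mem _ hx hz
    | smul a x _ hx => rw [smul_comm]; exact Submodule.smul_mem _ _ hx

/-- A map of finite free modules which is bijective in codimension one is bijective. -/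
theorem bijective_of_free [IsNoetherianRing T] [Nontrivial T]
    [Module.Free T M] [Module.Finite T M] [Module.Free T N] [Module.Finite T N]
    (hk : ∀ (Q : Ideal T) [Q.IsPrime], Q.height ≤ 1 → ∀ x, φ x = 0 → ∃ s ∉ Q, s • x = 0)
    (hc : ∀ (Q : Ideal T) [Q.IsPrime], Q.height ≤ 1 → ∀ y : N, ∃ s ∉ Q, s • y ∈ LinearMap.range φ) :
    Function.Bijective φ := by
  classical
  obtain ⟨q, hq⟩ := Ideal.nonempty_minimalPrimes (R := T) (I := ⊥) top_ne_bot.symm
  haveI := hq.isPrime
  have hq0 : q.height = 0 := Ideal.height_eq_zero_iff.mpr hq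
  -- partial inverses
  have key : ∀ (Q : Ideal T) [Q.IsPrime], Q.height ≤ 1 →
      ∃ s ∉ Q, ∃ g : N →ₗ[T] M, φ ∘ₗ g = s • LinearMap.id ∧ g ∘ₗ φ = s • LinearMap.id := by
    intro Q _ hQ
    obtain ⟨s, hs, hr⟩ := exists_scalar_range φ Q (hc Q hQ)
    let b := Module.Free.chooseBasis T N
    choose x hx using fun i => hr (b i)
    let g : N →ₗ[T] M := b.constr ℕ x
    have h1 : φ ∘ₗ g = s • LinearMap.id := b.ext fun i => by simp [g, hx]
    let c := Module.Free.chooseBasis T M
    have h2 : ∀ i, φ (g (φ (c i)) - s • c i) = 0 := fun i => by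
      have := LinearMap.congr_fun h1 (φ (c i))
      simp only [LinearMap.comp_apply, LinearMap.smul_apply, LinearMap.id_apply] at this
      rw [map_sub, map_smul, this, sub_self]
    choose t ht ht0 using fun i => hk Q hQ _ (h2 i)
    refine ⟨(∏ i, t i) * s, ?_, (∏ i, t i) • g, ?_, ?_⟩
    · rintro hc
      rcases ‹Q.IsPrime›.mem_or_mem hc with hc | hc
      · obtain ⟨i, _, hi⟩ := (‹Q.IsPrime›.prod_mem_iff).mp hc
        exact ht i hi
      · exact hs hc
    · rw [LinearMap.comp_smul, h1, smul_smul]
    · refine c.ext fun i => ?_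
      have : (∏ j, t j) • (g (φ (c i)) - s • c i) = 0 := by
        rw [← Finset.prod_erase_mul _ _ (Finset.mem_univ i), mul_smul, ht0, smul_zero]
      rw [smul_sub, sub_eq_zero] at this
      simpa [mul_smul] using this
  obtain ⟨s, hs, g, hg1, hg2⟩ := key q (by simp [hq0])
  -- equality of ranks
  have hrank : Module.finrank T M = Module.finrank T N := by
    let bM := Module.finBasis T M
    let bN := Module.finBasis T N
    let σ : T →+* FractionRing (T ⧸ q) :=
      (algebraMap (T ⧸ q) (FractionRing (T ⧸ q))).comp (Ideal.Quotient.mk q)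
    have hσ : σ s ≠ 0 := by
      rw [RingHom.comp_apply, Ne, FaithfulSMul.algebraMap_eq_zero_iff, Ideal.Quotient.eq_zero_iff_mem]
      exact hs
    let F₀ := (LinearMap.toMatrix bM bN φ).map σ
    let G₀ := (LinearMap.toMatrix bN bM g).map σ
    have h1 : F₀ * G₀ = σ s • 1 := by
      rw [← Matrix.map_mul, ← LinearMap.toMatrix_comp, hg1, map_smul, LinearMap.toMatrix_id,
        Matrix.map_smul' σ s 1 (map_mul σ), Matrix.map_one σ (map_zero σ) (map_one σ)]
    have h2 : G₀ * F₀ = σ s • 1 := by
      rw [← Matrix.map_mul, ← LinearMap.toMatrix_comp, hg2, map_smul, LinearMap.toMatrix_id,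
        Matrix.map_smul' σ s 1 (map_mul σ), Matrix.map_one σ (map_zero σ) (map_one σ)]
    have hr : ∀ (k : ℕ), ((σ s • 1 : Matrix (Fin k) (Fin k) (FractionRing (T ⧸ q)))).rank = k := fun k => by
      rw [Matrix.rank_of_isUnit _ ?_, Fintype.card_fin]
      rw [Matrix.isUnit_iff_isUnit_det, Matrix.det_smul, Matrix.det_one, mul_one]
      exact (isUnit_iff_ne_zero.mpr hσ).pow _
    refine le_antisymm ?_ ?_
    · calc Module.finrank T M = (G₀ * F₀).rank := by rw [h2, hr]
        _ ≤ G₀.rank := Matrix.rank_mul_le_left _ _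
        _ ≤ _ := Matrix.rank_le_width _
    · calc Module.finrank T N = (F₀ * G₀).rank := by rw [h1, hr]
        _ ≤ F₀.rank := Matrix.rank_mul_le_left _ _
        _ ≤ _ := Matrix.rank_le_width _
  let eN := Module.finBasis T N
  let eM : Module.Basis (Fin (Module.finrank T N)) T M :=
    (Module.finBasis T M).reindex (finCongr hrank)
  let F := LinearMap.toMatrix eM eN φ
  have hF : IsUnit F.det := isUnit_det_of_height_le_one F fun Q _ hQ => by
    obtain ⟨s, hs, g, hg1, -⟩ := key Q hQ
    refine ⟨s, hs, LinearMap.toMatrix eN eM g, ?_⟩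
    rw [← LinearMap.toMatrix_comp, hg1, map_smul, LinearMap.toMatrix_id]
  let G := Matrix.toLin eN eM F⁻¹
  have hφ : φ = Matrix.toLin eM eN F := (Matrix.toLin_toMatrix eM eN φ).symm
  have h1 : φ ∘ₗ G = LinearMap.id := by
    rw [hφ, ← Matrix.toLin_mul, Matrix.mul_nonsing_inv _ hF, Matrix.toLin_one]
  have h2 : G ∘ₗ φ = LinearMap.id := by
    rw [hφ, ← Matrix.toLin_mul, Matrix.nonsing_inv_mul _ hF, Matrix.toLin_one]
  exact ⟨Function.LeftInverse.injective (g := G) (LinearMap.congr_fun h2),
    Function.RightInverse.surjective (g := G) (LinearMap.congr_fun h1)⟩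

variable (R : Type*) [CommRing R] [IsNoetherianRing R]

/-- A map of finite projective modules over a Noetherian ring which is bijective in codimension
one is bijective. -/
theorem bijective_of_projective {M : Type*} [AddCommGroup M] [Module R M] [Module.Finite R M]
    [Module.Projective R M] {N : Type*} [AddCommGroup N] [Module R N] [Module.Finite R N]
    [Module.Projective R N] (φ : M →ₗ[R] N)
    (hk : ∀ (Q : Ideal R) [Q.IsPrime], Q.height ≤ 1 → ∀ x, φ x = 0 → ∃ s ∉ Q, s • x = 0)
    (hc : ∀ (Q : Ideal R) [Q.IsPrime], Q.height ≤ 1 → ∀ y : N, ∃ s ∉ Q, s • y ∈ LinearMap.range φ) :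
    Function.Bijective φ := by
  refine bijective_of_localized_maximal φ fun P _ => ?_
  haveI : Module.Free (Localization P.primeCompl) (LocalizedModule P.primeCompl M) :=
    Module.free_of_flat_of_isLocalRing
  haveI : Module.Free (Localization P.primeCompl) (LocalizedModule P.primeCompl N) :=
    Module.free_of_flat_of_isLocalRing
  have hun : ∀ (Q : Ideal (Localization P.primeCompl)) [Q.IsPrime], Q.height ≤ 1 →
      (Q.comap (algebraMap R _)).height ≤ 1 := fun Q _ hQ => by
    rwa [IsLocalization.height_under P.primeCompl Q]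
  refine bijective_of_free (LocalizedModule.map P.primeCompl φ) ?_ ?_
  · intro Q _ hQ x hx
    induction x using LocalizedModule.induction_on with | _ m t
    rw [LocalizedModule.map_mk, ← LocalizedModule.zero_mk 1, LocalizedModule.mk_eq] at hx
    obtain ⟨u, hu⟩ := hx
    simp only [one_smul, smul_zero] at hu
    obtain ⟨s, hs, hs0⟩ := hk _ (hun Q hQ) ((u : R) • m) (by rw [map_smul]; exact hu)
    refine ⟨algebraMap R _ s * algebraMap R _ (u : R), fun h => ?_, ?_⟩
    · rcases ‹Q.IsPrime›.mem_or_mem h with h | h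
      · exact hs h
      · exact ‹Q.IsPrime›.ne_top (Q.eq_top_of_isUnit_mem h (IsLocalization.map_units _ u))
    · rw [← map_mul, algebraMap_smul, LocalizedModule.smul'_mk, mul_smul, hs0,
        LocalizedModule.zero_mk]
  · intro Q _ hQ y
    induction y using LocalizedModule.induction_on with | _ n t
    obtain ⟨s, hs, x, hx⟩ := hc _ (hun Q hQ) n
    refine ⟨algebraMap R _ s, hs, LocalizedModule.mk x t, ?_⟩
    rw [LocalizedModule.map_mk, hx, algebraMap_smul, LocalizedModule.smul'_mk]

end Det

section Alg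

variable (R A B : Type u) [CommRing R] [CommRing A] [CommRing B] [Algebra R A] [Algebra R B]
  [Algebra A B] [IsScalarTower R A B]

/-- A morphism of smooth algebras which is etale at all primes of height at most one is etale. -/
theorem etale_of_etale_height_le_one [IsNoetherianRing B] [Algebra.Smooth R A] [Algebra.Smooth R B]
    (h : ∀ (Q : PrimeSpectrum B), Q.asIdeal.height ≤ 1 → Algebra.IsEtaleAt A Q.asIdeal) :
    Algebra.Etale A B := by
  haveI : Algebra.FinitePresentation A B :=
    Algebra.FinitePresentation.of_restrict_scalars_finitePresentation R A B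
  let φ := KaehlerDifferential.mapBaseChange R A B
  have hsupp : ∀ (Q : Ideal B) [Q.IsPrime], Q.height ≤ 1 →
      (⟨Q, inferInstance⟩ : PrimeSpectrum B) ∈ (Module.support B Ω[B⁄A])ᶜ ∩
        (Module.support B (Algebra.H1Cotangent A B))ᶜ := fun Q _ hQ =>
    Algebra.etaleLocus_eq_compl_support (R := A) (A := B) ▸
      (Algebra.mem_etaleLocus_iff).mpr (h ⟨Q, inferInstance⟩ hQ)
  have hbij : Function.Bijective φ := by
    refine bijective_of_projective B φ ?_ ?_
    · intro Q _ hQ x hx
      obtain ⟨y, rfl⟩ := (Algebra.H1Cotangent.exact_δ_mapBaseChange R A B x).mp hx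
      obtain ⟨t, ht, ht0⟩ := Module.notMem_support_iff'.mp (hsupp Q hQ).2 y
      exact ⟨t, ht, by rw [← map_smul, ht0, map_zero]⟩
    · intro Q _ hQ y
      obtain ⟨t, ht, ht0⟩ := Module.notMem_support_iff'.mp (hsupp Q hQ).1
        (KaehlerDifferential.map R A B B y)
      refine ⟨t, ht, ?_⟩
      rw [← map_smul] at ht0
      exact (KaehlerDifferential.exact_mapBaseChange_map R A B (t • y)).mp ht0
  haveI : Algebra.FormallyEtale A B := by
    refine ⟨?_, ?_⟩
    · refine ⟨fun a b => ?_⟩
      obtain ⟨a, rfl⟩ := KaehlerDifferential.map_surjective R A B a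
      obtain ⟨b, rfl⟩ := KaehlerDifferential.map_surjective R A B b
      obtain ⟨a, rfl⟩ := hbij.2 a
      obtain ⟨b, rfl⟩ := hbij.2 b
      rw [(KaehlerDifferential.exact_mapBaseChange_map R A B).apply_apply_eq_zero,
        (KaehlerDifferential.exact_mapBaseChange_map R A B).apply_apply_eq_zero]
    · have hδ : Function.Injective (Algebra.H1Cotangent.δ R A B) := by
        rw [injective_iff_map_eq_zero]
        intro y hy
        obtain ⟨z, rfl⟩ := (Algebra.H1Cotangent.exact_map_δ R A B y).mp hy
        rw [Subsingleton.elim z 0, map_zero]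
      refine ⟨fun a b => hδ (hbij.1 ?_)⟩
      rw [(Algebra.H1Cotangent.exact_δ_mapBaseChange R A B).apply_apply_eq_zero,
        (Algebra.H1Cotangent.exact_δ_mapBaseChange R A B).apply_apply_eq_zero]
  exact ⟨‹_›, ‹_›⟩

/-- Flat morphisms do not decrease heights. -/
theorem height_comap_le [IsNoetherianRing R] [IsNoetherianRing B] [Module.Flat R B] (P : Ideal B) [P.IsPrime] :
    (P.comap (algebraMap R B)).height ≤ P.height := by
  haveI : P.LiesOver (P.comap (algebraMap R B)) := ⟨rfl⟩
  rw [Ideal.height_eq_height_add_of_liesOver_of_hasGoingDown (P.comap (algebraMap R B)) P]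
  exact le_self_add

end Alg

end Groth.Agent.EtExt
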