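import Groth.Agent.EtExt.Codim2
import Mathlib.AlgebraicGeometry.Morphisms.Etale
import Mathlib.AlgebraicGeometry.Morphisms.Smooth
import Mathlib.AlgebraicGeometry.Noetherian

/-! # Etaleness extends over closed subsets of codimension two of the base -/

set_option autoImplicit false

universe u

open CategoryTheory Limits AlgebraicGeometry

namespace Groth.Agent.EtExt

set_option maxHeartbeats 800000 in
/-- A morphism of smooth `S`-schemes which is etale over an open of `S` containing all points of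
dimension at most one is etale. -/
theorem etale_of_etale_over_open {S G H : Scheme.{u}} [IsLocallyNoetherian S] (a : G ⟶ S)
    (b : H ⟶ S) [Smooth a] [Smooth b] (f : G ⟶ H) (w : f ≫ b = a) (S₁ : S.Opens)
    (hcodim : ∀ x : S, x ∉ S₁ → (2 : WithBot ℕ∞) ≤ ringKrullDim (S.presheaf.stalk x))
    (h₁ : ∀ W : G.Opens, W ≤ a ⁻¹ᵁ S₁ → Etale (W.ι ≫ f)) : Etale f := by
  haveI : IsLocallyNoetherian G := LocallyOfFiniteType.isLocallyNoetherian a
  have hQ : RingHom.StableUnderCompositionWithLocalizationAwaySource RingHom.Etale := by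
    intro R R' T _ _ _ _ r _ g hg
    exact RingHom.Etale.stableUnderComposition _ _
      (RingHom.etale_algebraMap.mpr (Algebra.Etale.of_isLocalizationAway r)) hg
  rw [HasRingHomProperty.iff_exists_appLE (P := @Etale) hQ]
  intro x
  obtain ⟨_, ⟨U, hU, rfl⟩, hxU, -⟩ :=
    S.isBasis_affineOpens.exists_subset_of_mem_open (Set.mem_univ (b (f x))) isOpen_univ
  obtain ⟨_, ⟨V, hV, rfl⟩, hxV, hVU⟩ :=
    H.isBasis_affineOpens.exists_subset_of_mem_open
      (show f x ∈ ((b ⁻¹ᵁ U : H.Opens) : Set H) from hxU) (b ⁻¹ᵁ U).2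
  obtain ⟨_, ⟨W, hW, rfl⟩, hxW, hWV⟩ :=
    G.isBasis_affineOpens.exists_subset_of_mem_open
      (show x ∈ ((f ⁻¹ᵁ V : G.Opens) : Set G) from hxV) (f ⁻¹ᵁ V).2
  have eV : V ≤ b ⁻¹ᵁ U := hVU
  have eW : W ≤ f ⁻¹ᵁ V := hWV
  have eWU : W ≤ a ⁻¹ᵁ U := fun y hy => by
    have := eV (eW hy)
    show a y ∈ U
    rw [← w]; exact this
  refine ⟨⟨V, hV⟩, ⟨W, hW⟩, hxW, eW, ?_⟩
  algebraize [(b.appLE U V eV).hom, (f.appLE V W eW).hom, (a.appLE U W eWU).hom]
  haveI : IsScalarTower Γ(S, U) Γ(H, V) Γ(G, W) := IsScalarTower.of_algebraMap_eq fun r => by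
    show (a.appLE U W eWU).hom r = (f.appLE V W eW).hom ((b.appLE U V eV).hom r)
    rw [← CommRingCat.comp_apply, Scheme.Hom.appLE_comp_appLE]
    subst w
    rfl
  haveI : Algebra.Smooth Γ(S, U) Γ(H, V) := b.smooth_appLE hU hV eV
  haveI : Algebra.Smooth Γ(S, U) Γ(G, W) := a.smooth_appLE hU hW eWU
  haveI : IsNoetherianRing Γ(S, U) := IsLocallyNoetherian.component_noetherian ⟨U, hU⟩
  haveI : IsNoetherianRing Γ(G, W) := IsLocallyNoetherian.component_noetherian ⟨W, hW⟩
  refine etale_of_etale_height_le_one Γ(S, U) Γ(H, V) Γ(G, W) fun Q hQ1 => ?_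
  set y := hW.fromSpec Q with hy
  have hyW : y ∈ W := by rw [← SetLike.mem_coe, ← hW.range_fromSpec]; exact ⟨Q, rfl⟩
  have hQy : hW.primeIdealOf ⟨y, hyW⟩ = Q :=
    haveI := hW.isOpenImmersion_fromSpec
    hW.fromSpec.isOpenEmbedding.injective (hW.fromSpec_primeIdealOf _)
  have hy₁ : a y ∈ S₁ := by
    by_contra hc
    have h2 := hcodim _ hc
    letI := S.presheaf.algebra_section_stalk ⟨a y, eWU hyW⟩
    haveI := hU.isLocalization_stalk ⟨a y, eWU hyW⟩
    rw [IsLocalization.AtPrime.ringKrullDim_eq_height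
      (hU.primeIdealOf ⟨a y, eWU hyW⟩).asIdeal (S.presheaf.stalk (a y))] at h2
    rw [← IsAffineOpen.comap_primeIdealOf_appLE U hU W hW eWU hyW, hQy] at h2
    haveI : Module.Flat Γ(S, U) Γ(G, W) := inferInstance
    have h3 : (2 : ℕ∞) ≤ (Q.asIdeal.comap (a.appLE U W eWU).hom).height :=
      WithBot.coe_le_coe.mp h2
    have h4 := h3.trans ((height_comap_le Γ(S, U) Γ(G, W) Q.asIdeal).trans hQ1)
    exact absurd h4 (by decide)
  obtain ⟨r, hrS, hyr⟩ := hW.exists_basicOpen_le (V := a ⁻¹ᵁ S₁) ⟨y, hy₁⟩ hyW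
  haveI := h₁ (G.basicOpen r) hrS
  have hD : IsAffineOpen (G.basicOpen r) := hW.basicOpen r
  have eD : G.basicOpen r ≤ f ⁻¹ᵁ V := (G.basicOpen_le r).trans eW
  have hDtop : IsAffineOpen (⊤ : (G.basicOpen r).toScheme.Opens) := by
    haveI : IsAffine (G.basicOpen r).toScheme := hD
    exact isAffineOpen_top _
  have het : (f.appLE V (G.basicOpen r) eD).hom.Etale := by
    have h5 := ((G.basicOpen r).ι ≫ f).etale_appLE hV hDtop (fun z _ => eD z.2)
    rw [← Scheme.Hom.appLE_comp_appLE (G.basicOpen r).ι f V (G.basicOpen r) ⊤ eD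
      (Scheme.Opens.ι_preimage_self _).ge, CommRingCat.hom_comp] at h5
    rw [Scheme.Opens.ι_appLE] at h5
    haveI hiso : ∀ {O₁ O₂ : G.Opens} (h : O₁ ≤ O₂), O₁ = O₂ → IsIso (G.presheaf.map (homOfLE h).op) := by
      rintro O₁ O₂ h rfl
      rw [Subsingleton.elim (homOfLE h) (𝟙 O₁)]
      infer_instance
    have htop : (G.basicOpen r).ι ''ᵁ (⊤ : (G.basicOpen r).toScheme.Opens) = G.basicOpen r :=
      (Scheme.Hom.image_top_eq_opensRange _).trans (Scheme.Opens.opensRange_ι _)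
    haveI := hiso htop.le htop
    exact (RingHom.Etale.respectsIso.cancel_right_isIso _ (G.presheaf.map (homOfLE htop.le).op)).mp h5
  letI : Algebra Γ(G, W) Γ(G, G.basicOpen r) :=
    (G.presheaf.map (homOfLE (G.basicOpen_le r)).op).hom.toAlgebra
  haveI : IsLocalization.Away r Γ(G, G.basicOpen r) := hW.isLocalization_basicOpen r
  letI : Algebra Γ(H, V) Γ(G, G.basicOpen r) := (f.appLE V (G.basicOpen r) eD).hom.toAlgebra
  haveI : IsScalarTower Γ(H, V) Γ(G, W) Γ(G, G.basicOpen r) :=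
    IsScalarTower.of_algebraMap_eq fun z => by
      show (f.appLE V (G.basicOpen r) eD).hom z =
        (G.presheaf.map (homOfLE (G.basicOpen_le r)).op).hom ((f.appLE V W eW).hom z)
      rw [← CommRingCat.comp_apply, Scheme.Hom.appLE_map]
  haveI : Algebra.Etale Γ(H, V) Γ(G, G.basicOpen r) := het
  haveI : Algebra.Etale Γ(H, V) (Localization.Away r) :=
    Algebra.Etale.of_equiv
      ((IsLocalization.algEquiv (Submonoid.powers r) Γ(G, G.basicOpen r)
        (Localization.Away r)).restrictScalars Γ(H, V))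
  haveI : Algebra.FinitePresentation Γ(H, V) Γ(G, W) :=
    Algebra.FinitePresentation.of_restrict_scalars_finitePresentation Γ(S, U) Γ(H, V) Γ(G, W)
  refine Algebra.mem_etaleLocus_iff.mp (Algebra.basicOpen_subset_etaleLocus_iff_etale.mpr
    ‹Algebra.Etale Γ(H, V) (Localization.Away r)› ?_)
  rw [SetLike.mem_coe, ← hW.fromSpec_preimage_basicOpen r]
  exact hyr

end Groth.Agent.EtExt
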